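import Cfsg.Agent.H710.Gow.PSUTwo
import Cfsg.Agent.CharactersDeep.MackeyLinear
import Cfsg.Agent.OddOrderCharacters.Clifford

/-!
# A rational character of odd degree of `PSU(3, q)`, `q = 2 ^ n`, `q = 1 mod 3` (helper710)

The character of degree `q ^ 3 + 1` induced from a linear character of order three of the Borel subgroup.
-/

set_option autoImplicit false
set_option linter.unusedSectionVars false
set_option linter.unusedVariables false

namespace Cfsg.Agent.H710.Gow.PSUOne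

open Matrix Cfsg Cfsg.Agent.LieRecognition Cfsg.Agent.LieRecognition.HermHeis
  Cfsg.Agent.LieRecognition.PSUThreeSylow Cfsg.Agent.LieRecognition.RankOneAbstract
  Cfsg.Agent.SuzukiRankOne Cfsg.Agent.SuzukiRankOne.PSUModel Cfsg.Agent.AschCrit.PSUTorus
  Cfsg.Agent.H710.Cuspidal Cfsg.Agent.H710.UThree Cfsg.Agent.Characters.Core
  Cfsg.Agent.H710.GUThree Cfsg.Agent.H710.Gow.PSUTwo Cfsg.Agent.H636.Gow
  Cfsg.Agent.OddOrderCharacters.IndRes
open scoped ComplexConjugate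

universe u

/-! ### cube roots of unity -/

theorem cases_cube {z ζ : ℂ} (hz : z ^ 3 = 1) (hζ : ζ ^ 3 = 1) (h1 : ζ ≠ 1) : z = 1 ∨ z = ζ ∨ z = ζ⁻¹ := by
  have hζ0 : ζ ≠ 0 := by
    rintro rfl
    norm_num at hζ
  have h2 : ζ ^ 2 + ζ + 1 = 0 := by
    have h3 : (ζ - 1) * (ζ ^ 2 + ζ + 1) = 0 := by linear_combination hζ
    rcases mul_eq_zero.1 h3 with h | h
    · exact absurd (sub_eq_zero.1 h) h1
    · exact h
  have hinv : ζ⁻¹ = ζ ^ 2 := by
    rw [inv_eq_iff_eq_inv, eq_comm]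
    exact inv_eq_of_mul_eq_one_left (by rw [← pow_succ', hζ])
  have h4 : (z - 1) * ((z - ζ) * (z - ζ ^ 2)) = 0 := by
    linear_combination hz + (z - 1) * hζ - (z ^ 2 - z) * h2
  rcases mul_eq_zero.1 h4 with h | h
  · exact Or.inl (sub_eq_zero.1 h)
  · rcases mul_eq_zero.1 h with h | h
    · exact Or.inr (Or.inl (sub_eq_zero.1 h))
    · rw [hinv]
      exact Or.inr (Or.inr (sub_eq_zero.1 h))

/-- automorphisms of `ℂ` on the values of a character of order three. -/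
theorem galois_cases {B : Type*} [Group B] (lam : B →* ℂˣ) (h3 : ∀ b, lam b ^ 3 = 1) {b₀ : B} (h0 : lam b₀ ≠ 1)
    (τ : ℂ ≃+* ℂ) : (∀ b, τ (lam b) = lam b) ∨ ∀ b, τ (lam b) = (lam⁻¹ b : ℂˣ) := by
  have h3' : ∀ b, ((lam b : ℂˣ) : ℂ) ^ 3 = 1 := by
    intro b
    rw [← Units.val_pow_eq_pow_val, h3, Units.val_one]
  have h0' : ((lam b₀ : ℂˣ) : ℂ) ≠ 1 := fun h => h0 (Units.ext h)
  have hc : ∀ b, ((lam b : ℂˣ) : ℂ) = 1 ∨ ((lam b : ℂˣ) : ℂ) = lam b₀ ∨ ((lam b : ℂˣ) : ℂ) = ((lam b₀ : ℂˣ) : ℂ)⁻¹ :=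
    fun b => cases_cube (h3' b) (h3' b₀) h0'
  have hτ : τ (lam b₀ : ℂˣ) ^ 3 = 1 := by rw [← map_pow, h3', map_one]
  rcases cases_cube hτ (h3' b₀) h0' with h | h | h
  · exact absurd (τ.injective (h.trans (map_one τ).symm)) h0'
  · left
    intro b
    rcases hc b with hb | hb | hb
    · rw [hb, map_one]
    · rw [hb, h]
    · rw [hb, map_inv₀, h]
  · right
    intro b
    rw [MonoidHom.inv_apply, Units.val_inv_eq_inv_val]
    rcases hc b with hb | hb | hb
    · rw [hb, map_one, inv_one]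
    · rw [hb, h]
    · rw [hb, map_inv₀, h]

/-! ### the induced character -/

section

variable {G : Type u} [Group G] [Fintype G] {H U : Subgroup G} {w : G}

/-- **A linear character of order three inverted by `w`.** -/
theorem ratOdd_of_data (D : Data H U w) (heven : Even (Nat.card U)) (lam : H →* ℂˣ) (h3 : ∀ b, lam b ^ 3 = 1)
    (hU : ∀ u : H, (u : G) ∈ U → lam u = 1)
    (hinv : ∀ (b : H) (hb : w⁻¹ * (b : G) * w ∈ H), lam ⟨w⁻¹ * (b : G) * w, hb⟩ = (lam b)⁻¹)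
    {b₀ : H} (hb₀ : w⁻¹ * (b₀ : G) * w ∈ H) (h0 : lam b₀ ≠ 1) : RatOdd G := by
  classical
  have : Fintype H := Fintype.ofFinite _
  have h0i : lam b₀ ≠ (lam b₀)⁻¹ := by
    intro h
    apply h0
    have h4 : lam b₀ * lam b₀ = 1 := by
      nth_rewrite 2 [h]
      exact mul_inv_cancel _
    have h5 := h3 b₀
    rw [pow_succ, pow_two, h4, one_mul] at h5
    exact h5
  -- the key fact
  have key : ∀ x : G, x ∉ H → ∀ (b : H) (hb : x⁻¹ * (b : G) * x ∈ H), lam ⟨x⁻¹ * (b : G) * x, hb⟩ = (lam b)⁻¹ := by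
    intro x hx b hb
    obtain ⟨s, hs, hy⟩ := D.bruhat x hx
    set y : G := (s * w)⁻¹ * x with hydef
    have hxe : x = s * w * y := by rw [hydef]; group
    have hsH := D.le hs
    let s' : H := ⟨s, hsH⟩
    let y' : H := ⟨y, hy⟩
    have e1 : w⁻¹ * ((s'⁻¹ * b * s' : H) : G) * w = y * (x⁻¹ * (b : G) * x) * y⁻¹ := by
      change w⁻¹ * (s⁻¹ * (b : G) * s) * w = _
      rw [hxe]; group
    have hm : w⁻¹ * ((s'⁻¹ * b * s' : H) : G) * w ∈ H := by
      rw [e1]
      exact H.mul_mem (H.mul_mem hy hb) (H.inv_mem hy)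
    have e2 : (⟨x⁻¹ * (b : G) * x, hb⟩ : H) = y'⁻¹ * ⟨w⁻¹ * ((s'⁻¹ * b * s' : H) : G) * w, hm⟩ * y' := by
      apply Subtype.ext
      change x⁻¹ * (b : G) * x = y⁻¹ * (w⁻¹ * ((s'⁻¹ * b * s' : H) : G) * w) * y
      rw [e1]; group
    rw [e2, map_mul, map_mul, hinv, map_mul, map_mul, map_inv, map_inv]
    rw [mul_comm (lam y')⁻¹, inv_mul_cancel_right, mul_comm (lam s')⁻¹, inv_mul_cancel_right]
  have hirr : ∀ m : H →* ℂˣ, (m = lam ∨ m = lam⁻¹) → IsIrrCharacter G (indFun H (fun t => (m t : ℂ))) := by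
    intro m hm
    apply CharactersDeep.MackeyLinear.isIrrCharacter_indFun H m
    intro x hx
    obtain ⟨s, hs, hy⟩ := D.bruhat x hx
    set y : G := (s * w)⁻¹ * x with hydef
    have hxe : x = s * w * y := by rw [hydef]; group
    let s' : H := ⟨s, D.le hs⟩
    have e1 : x⁻¹ * ((s' * b₀ * s'⁻¹ : H) : G) * x = y⁻¹ * (w⁻¹ * (b₀ : G) * w) * y := by
      change x⁻¹ * (s * (b₀ : G) * s⁻¹) * x = _
      rw [hxe]; group
    have hm' : x⁻¹ * ((s' * b₀ * s'⁻¹ : H) : G) * x ∈ H := by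
      rw [e1]
      exact H.mul_mem (H.mul_mem (H.inv_mem hy) hb₀) hy
    refine ⟨s' * b₀ * s'⁻¹, hm', ?_⟩
    have hk := key x hx (s' * b₀ * s'⁻¹) hm'
    have e2 : lam (s' * b₀ * s'⁻¹) = lam b₀ := by
      rw [map_mul, map_mul, map_inv, mul_comm (lam s'), mul_inv_cancel_right]
    rw [e2] at hk
    rcases hm with rfl | rfl
    · rw [hk, e2]
      exact h0i
    · rw [MonoidHom.inv_apply, MonoidHom.inv_apply, hk, e2, inv_inv]
      exact h0i.symm
  -- the two induced characters agree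
  have heq : indFun H (fun t => (lam⁻¹ t : ℂˣ)) = indFun H (fun t => ((lam t : ℂˣ) : ℂ)) := by
    by_contra hne
    have h4 := classInner_irr_ne (hirr lam⁻¹ (Or.inr rfl)) (hirr lam (Or.inl rfl)) hne
    rw [Cfsg.Agent.OddOrderCharacters.Clifford.classInner_indFun_indFun] at h4
    have hc : (Nat.card H : ℂ)⁻¹ ≠ 0 := inv_ne_zero (Nat.cast_ne_zero.2 Nat.card_pos.ne')
    have h5 := (mul_eq_zero.1 ((mul_eq_zero.1 h4).resolve_left hc)).resolve_left hc
    have hnat : ∀ x : G, ∃ n : ℕ, Cfsg.Agent.OddOrderCharacters.Clifford.twist H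
        (fun t => (lam⁻¹ t : ℂˣ)) (fun t => ((lam t : ℂˣ) : ℂ)) x = n := fun x =>
      Cfsg.Agent.OddOrderCharacters.Clifford.twist_eq_nat H (Characters.Linear.isCharacter_hom _)
        (Characters.Linear.isCharacter_hom _) x
    choose n hn using hnat
    rw [Finset.sum_congr rfl fun x _ => hn x] at h5
    have h6 : ∑ x, n x = 0 := by exact_mod_cast h5
    have h7 : n w = 0 := Finset.sum_eq_zero_iff.1 h6 w (Finset.mem_univ w)
    have h8 := hn w
    rw [h7, Cfsg.Agent.OddOrderCharacters.Clifford.twist_def] at h8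
    have h9 : ∀ t : H, ((lam⁻¹ t : ℂˣ) : ℂ) * conj (extendByZero H (fun t => ((lam t : ℂˣ) : ℂ)) (w⁻¹ * t * w)) =
        if w⁻¹ * (t : G) * w ∈ H then 1 else 0 := by
      intro t
      split_ifs with ht
      · rw [extendByZero_of_mem H _ ht, hinv t ht]
        exact CharactersDeep.MackeyLinear.mul_conj_hom lam⁻¹ t
      · rw [extendByZero_of_notMem H _ ht, map_zero, mul_zero]
    rw [Finset.sum_congr rfl fun t _ => h9 t, Finset.sum_boole] at h8
    have h10 : (Finset.univ.filter (fun t : H => w⁻¹ * (t : G) * w ∈ H)).card = 0 := by exact_mod_cast h8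
    rw [Finset.card_eq_zero] at h10
    have h11 : (1 : H) ∈ Finset.univ.filter (fun t : H => w⁻¹ * (t : G) * w ∈ H) := by
      rw [Finset.mem_filter]
      refine ⟨Finset.mem_univ _, ?_⟩
      rw [OneMemClass.coe_one, mul_one, inv_mul_cancel]
      exact H.one_mem
    rw [h10] at h11
    exact absurd h11 (Finset.notMem_empty _)
  have hdeg : indFun H (fun t => ((lam t : ℂˣ) : ℂ)) 1 = ((Nat.card U + 1 : ℕ) : ℂ) := by
    rw [indFun_apply_one, D.index, map_one, Units.val_one, mul_one]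
  have hUpos : 0 < Nat.card U := Nat.card_pos
  refine ⟨indFun H (fun t => ((lam t : ℂˣ) : ℂ)), hirr lam (Or.inl rfl), ?_, ⟨Nat.card U + 1, heven.add_one, hdeg⟩,
    fun g => ?_⟩
  · intro h1
    rw [h1, Pi.one_apply] at hdeg
    have : (1 : ℕ) = Nat.card U + 1 := by exact_mod_cast hdeg
    omega
  · apply Characters.GaloisBasic.exists_rat_of_forall_ringEquiv
    · exact (Characters.GaloisBasic.isIntegral_apply (isIrr_isCharacter (hirr lam (Or.inl rfl))) g).tower_top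
    · intro τ
      have hext : ∀ (m : H → ℂ) (y : G), (∀ b, τ (lam b : ℂˣ) = m b) →
          τ (extendByZero H (fun t => ((lam t : ℂˣ) : ℂ)) y) = extendByZero H m y := by
        intro m y hm
        by_cases hy : y ∈ H
        · rw [extendByZero_of_mem H _ hy, extendByZero_of_mem H _ hy, hm]
        · rw [extendByZero_of_notMem H _ hy, extendByZero_of_notMem H _ hy, map_zero]
      have hind : ∀ (m : H → ℂ), (∀ b, τ (lam b : ℂˣ) = m b) →
          τ (indFun H (fun t => ((lam t : ℂˣ) : ℂ)) g) = indFun H m g := by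
        intro m hm
        rw [S0150.indFun_apply, S0150.indFun_apply, map_mul, map_inv₀, map_natCast, map_sum]
        congr 1
        exact Finset.sum_congr rfl fun x _ => hext m _ hm
      rcases galois_cases lam h3 h0 τ with h | h
      · exact hind _ h
      · rw [hind _ h]
        exact congrFun heq g

end

/-! ### the unitary groups -/

section PSU

variable {F : Type u} [Field F] [CharP F 2] {σ : F →+* F} [hσ : Fact (∀ x, σ (σ x) = x)] [Finite F] {n : ℕ}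

/-- the entry `(0, 0)` on the Borel subgroup -/
def ent (σ : F →+* F) : borel σ →* F where
  toFun h := h.1.1.1 0 0
  map_one' := by
    change (1 : Matrix (Fin 3) (Fin 3) F) 0 0 = 1
    simp
  map_mul' g h := by
    have h1 := (mem_borel.1 h.2)
    change (g.1.1.1 * h.1.1.1) 0 0 = _
    rw [Matrix.mul_apply, Fin.sum_univ_three, h1.1, h1.2]
    ring

theorem ent_tel (α : F) (h0 : α ≠ 0) (hb : tel σ α h0 ∈ borel σ) : ent σ ⟨tel σ α h0, hb⟩ = α := by
  change (tel σ α h0).1.1 0 0 = α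
  rw [tel_val]
  simp

theorem ent_emb (x : Heis σ) (hb : emb σ x ∈ borel σ) : ent σ ⟨emb σ x, hb⟩ = 1 := by
  change (emb σ x).1.1 0 0 = 1
  rw [emb_val]
  simp [umat]

/-- a character of order three of a cyclic group of order divisible by three -/
theorem exists_three (h3 : 3 ∣ Nat.card Fˣ) : ∃ f : Fˣ →* ℂˣ, (∀ x, f x ^ 3 = 1) ∧ ∃ x, f x ≠ 1 := by
  let K : Subgroup Fˣ := (powMonoidHom 3 : Fˣ →* Fˣ).range
  have hK : K ≠ ⊤ := by
    intro h
    have h4 : Function.Surjective (powMonoidHom 3 : Fˣ →* Fˣ) := MonoidHom.range_eq_top.1 h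
    have h5 : Function.Injective (powMonoidHom 3 : Fˣ →* Fˣ) := Finite.injective_iff_surjective.2 h4
    have : Fact (Nat.Prime 3) := ⟨Nat.prime_three⟩
    obtain ⟨x, hx⟩ := exists_prime_orderOf_dvd_card' (G := Fˣ) 3 h3
    have h6 : x = 1 := h5 (by
      change x ^ 3 = 1 ^ 3
      rw [one_pow, ← hx]
      exact pow_orderOf_eq_one x)
    rw [h6, orderOf_one] at hx
    norm_num at hx
  obtain ⟨x, hx⟩ : ∃ x, x ∉ K := by
    by_contra hcon
    push Not at hcon
    exact hK ((Subgroup.eq_top_iff' K).2 hcon)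
  have hx1 : (QuotientGroup.mk x : Fˣ ⧸ K) ≠ 1 := fun h => hx ((QuotientGroup.eq_one_iff x).1 h)
  obtain ⟨φ, hφ⟩ := CommGroup.exists_apply_ne_one_of_hasEnoughRootsOfUnity (Fˣ ⧸ K) ℂ hx1
  refine ⟨φ.comp (QuotientGroup.mk' K), fun y => ?_, x, hφ⟩
  rw [← map_pow, MonoidHom.comp_apply]
  have h7 : QuotientGroup.mk' K (y ^ 3) = 1 := (QuotientGroup.eq_one_iff _).2 ⟨y, rfl⟩
  rw [h7, map_one]

/-- the centre is trivial. -/
theorem eq_one_of_center (hn : 1 ≤ n) (hs : ∀ x, σ x = x ^ (2 ^ n)) (hF : Nat.card F = (2 ^ n) ^ 2)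
    (hmod : 2 ^ n % 3 = 1) {g : SUJ σ} (hg : g ∈ Subgroup.center (SUJ σ)) : g = 1 := by
  have hq : 1 < 2 ^ n := Nat.one_lt_two_pow (by omega)
  obtain ⟨x₀, hx₀⟩ := HermHeis.exists_heis_a (σ := σ) hq hs hF 1
  have hx0' : x₀.a ≠ 0 := by rw [hx₀]; exact one_ne_zero
  have hx : ∃ x : Heis σ, x.a ≠ 0 := ⟨x₀, hx0'⟩
  have hb : g ∈ borel σ := center_le_borel hx hg
  have ht : g ∈ torus σ := by
    rw [mem_torus]
    refine ⟨hb, ?_⟩
    rw [mul_assoc, ← Subgroup.mem_center_iff.1 hg (wel σ), inv_mul_cancel_left]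
    exact hb
  obtain ⟨α, h0, rfl⟩ := eq_tel ht
  have h1 := scal_eq_of_center hg (fun x => tel_mul α h0 x) x₀
  have hx1 : x₀ ≠ 1 := by
    rintro rfl
    exact hx0' one_a
  have h2 := norm_eq_of_scal hx1 h1
  have h3 := cube_eq_of_scal hx0' h1
  rw [hs, ← pow_succ'] at h2
  have h4 : α = 1 := by
    obtain ⟨r, hr⟩ : ∃ r, 2 ^ n = 3 * r + 1 := ⟨2 ^ n / 3, by omega⟩
    have h5 : α ^ 2 = 1 := by
      rw [hr, show 3 * r + 1 + 1 = 3 * r + 2 by ring, pow_add, pow_mul, h3, one_pow, one_mul] at h2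
      exact h2
    rw [pow_succ, h5, one_mul] at h3
    exact h3
  subst h4
  apply Subtype.ext
  apply Subtype.ext
  rw [tel_val]
  ext i j
  fin_cases i <;> fin_cases j <;> simp

theorem ratOdd (hn : 1 ≤ n) (hs : ∀ x, σ x = x ^ (2 ^ n)) (hF : Nat.card F = (2 ^ n) ^ 2)
    (hmod : 2 ^ n % 3 = 1) : RatOdd (Cfsg.PSU 3 F (2 ^ n)) := by
  classical
  have hq : 1 < 2 ^ n := Nat.one_lt_two_pow (by omega)
  have := Fintype.ofFinite (SUJ σ)
  have := Fintype.ofFinite (Heis σ)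
  obtain ⟨π, hπ, hker⟩ := exists_pi (F := F) (σ := σ) (by omega) hs hF
  have hinj : Function.Injective π := (injective_iff_map_eq_one π).2 fun g hg =>
    eq_one_of_center hn hs hF hmod ((hker g).1 hg)
  refine RatOdd.of_equiv (MulEquiv.ofBijective π ⟨hinj, hπ⟩).symm ?_
  obtain ⟨r, hr⟩ : ∃ r, 2 ^ n = 3 * r + 1 := ⟨2 ^ n / 3, by omega⟩
  obtain ⟨f, hf3, x, hx⟩ := exists_three (F := F) (by
    rw [Nat.card_units, hF, hr]
    refine ⟨r * (3 * r + 2), ?_⟩
    have : (3 * r + 1) ^ 2 = 3 * (r * (3 * r + 2)) + 1 := by ring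
    omega)
  let lam : borel σ →* ℂˣ := f.comp (ent σ).toHomUnits
  have hlam : ∀ (b : borel σ) (u : Fˣ), ent σ b = u → lam b = f u := by
    intro b u hu
    change f ((ent σ).toHomUnits b) = f u
    congr 1
    apply Units.ext
    rw [MonoidHom.coe_toHomUnits, hu]
  have hbw : ∀ (α : F) (h0 : α ≠ 0) (hw : (σ α)⁻¹ ≠ 0),
      (wel σ)⁻¹ * tel σ α h0 * wel σ = tel σ (σ α)⁻¹ hw := by
    intro α h0 hw
    apply Subtype.ext
    apply Subtype.ext
    rw [wel_inv, coe_mul_SUJ, coe_mul_SUJ, wel_val, tel_val, tel_val]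
    ext i j
    fin_cases i <;> fin_cases j <;>
      simp [Jm, Matrix.mul_apply, Fin.sum_univ_three, HermHeis.sig, div_eq_mul_inv, mul_comm]
  have hval : ∀ (α : F) (h0 : α ≠ 0) (hb : tel σ α h0 ∈ borel σ), lam ⟨tel σ α h0, hb⟩ = f (Units.mk0 α h0) :=
    fun α h0 hb => hlam _ _ (by rw [ent_tel]; rfl)
  have hU : Even (Nat.card (emb σ).range) := by
    rw [← Nat.card_congr (MonoidHom.ofInjective (emb_injective (σ := σ))).toEquiv, card_heis hq hs hF,
      ← pow_mul]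
    exact even_two.pow_of_ne_zero (by omega)
  have hx0 : (x : F) ≠ 0 := x.ne_zero
  refine ratOdd_of_data data_SUJ hU lam (fun b => hf3 _) ?_ ?_
    (b₀ := ⟨tel σ (x : F) hx0, tel_mem_borel _ _⟩) ?_ ?_
  · rintro ⟨_, hb⟩ ⟨y, rfl⟩
    rw [hlam ⟨emb σ y, hb⟩ 1 (by rw [ent_emb, Units.val_one]), map_one]
  · rintro ⟨b, hb'⟩ hb
    have ht : b ∈ torus σ := mem_torus.2 ⟨hb', hb⟩
    obtain ⟨α, h0, rfl⟩ := eq_tel ht
    have h1 : σ α ≠ 0 := (map_ne_zero σ).mpr h0
    have e : (⟨(wel σ)⁻¹ * tel σ α h0 * wel σ, hb⟩ : borel σ) =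
        ⟨tel σ (σ α)⁻¹ (inv_ne_zero h1), tel_mem_borel _ _⟩ := Subtype.ext (hbw α h0 (inv_ne_zero h1))
    change lam ⟨(wel σ)⁻¹ * tel σ α h0 * wel σ, hb⟩ = _
    rw [e, hval, hval]
    have e2 : Units.mk0 (σ α)⁻¹ (inv_ne_zero h1) = ((Units.mk0 α h0) ^ (3 * r + 1))⁻¹ := by
      apply Units.ext
      rw [Units.val_mk0, Units.val_inv_eq_inv_val, Units.val_pow_eq_pow_val, Units.val_mk0, hs, hr]
    rw [e2, map_inv, map_pow, pow_succ, pow_mul, hf3, one_pow, one_mul]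
  · change (wel σ)⁻¹ * tel σ (x : F) hx0 * wel σ ∈ borel σ
    rw [hbw _ _ (inv_ne_zero ((map_ne_zero σ).mpr hx0))]
    exact tel_mem_borel _ _
  · rw [hval]
    have : Units.mk0 (x : F) hx0 = x := Units.ext rfl
    rw [this]
    exact hx

end PSU

/-- **PSU(3, q), `q > 2` even** -/
theorem psu_three (F : Type*) [Field F] [Fintype F] [CharP F 2] (q : ℕ) (hF : Fintype.card F = q ^ 2) (hq : q ≠ 2) :
    RatOdd (Cfsg.PSU 3 F q) := by
  obtain ⟨k, hk, hk2⟩ := FiniteField.card F 2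
  have h1 : q ^ 2 = 2 ^ (k : ℕ) := by rw [← hF, hk2]
  have h2 : q ∣ 2 ^ (k : ℕ) := by rw [← h1]; exact dvd_pow_self q (by norm_num)
  obtain ⟨n, -, rfl⟩ := (Nat.dvd_prime_pow Nat.prime_two).1 h2
  have hn : 1 ≤ n := by
    rcases Nat.eq_zero_or_pos n with rfl | h
    · exfalso
      have := Fintype.one_lt_card (α := F)
      rw [hF] at this
      norm_num at this
    · exact h
  have hF' : Nat.card F = (2 ^ n) ^ 2 := by rw [Nat.card_eq_fintype_card, hF]
  have hs : ∀ x, iterateFrobenius F 2 n x = x ^ (2 ^ n) := fun x => iterateFrobenius_def 2 n x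
  have hσ : Fact (∀ x, iterateFrobenius F 2 n (iterateFrobenius F 2 n x) = x) := ⟨by
    intro x
    rw [hs, hs, ← pow_mul, ← pow_two, ← hF]
    exact FiniteField.pow_card x⟩
  have hmod : 2 ^ n % 3 = 1 ∨ 2 ^ n % 3 = 2 := by
    have h3 : ¬ 3 ∣ 2 ^ n := fun h => by
      have := Nat.Prime.dvd_of_dvd_pow Nat.prime_three h
      norm_num at this
    omega
  rcases hmod with h | h
  · exact ratOdd (σ := iterateFrobenius F 2 n) hn hs hF' h
  · exact PSUTwo.ratOdd (σ := iterateFrobenius F 2 n) hn hs hF' h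

end Cfsg.Agent.H710.Gow.PSUOne
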