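import Cfsg.Agent.H710.GUThree
import Cfsg.Agent.Blocks.Knorr

/-!
# Parity of degrees of characters of the unipotent radical of `SU(3, q)` (helper710)

* `exists_L` : a nonzero additive map `L : F →+ ZMod 2` with `L ∘ σ = L`;
* `lin_surjective` : the linear characters of the radical are the `lin L c`;
* `parity` : the degree of a character is congruent to the sum of the multiplicities of the `lin L c`.
-/

set_option autoImplicit false
set_option linter.unusedSectionVars false

namespace Cfsg.Agent.H710.Gow.HeisPar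

open Matrix Cfsg Cfsg.Agent.LieRecognition Cfsg.Agent.LieRecognition.HermHeis
  Cfsg.Agent.LieRecognition.PSUThreeSylow Cfsg.Agent.H710.GUThree Cfsg.Agent.Characters.Core

universe u

variable {F : Type u} [Field F] [CharP F 2] {σ : F →+* F} [hσ : Fact (∀ x, σ (σ x) = x)]

/-- an invariant functional -/
theorem exists_L (hsur : ∀ c : F, σ c = c → ∃ b : F, b + σ b = c) :
    ∃ (L : F →+ ZMod 2) (a₀ : F), (∀ a, L (σ a) = L a) ∧ L a₀ ≠ 0 := by
  let _ := ZMod.algebra F 2
  obtain ⟨φ, hφ⟩ : ∃ φ : F →ₗ[ZMod 2] ZMod 2, φ 1 ≠ 0 := by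
    by_contra hcon
    push Not at hcon
    exact one_ne_zero ((Module.forall_dual_apply_eq_zero_iff (ZMod 2) (1 : F)).1 hcon)
  obtain ⟨a₀, ha₀⟩ := hsur 1 (map_one σ)
  refine ⟨⟨⟨fun a => φ (a + σ a), by simp⟩, fun a b => ?_⟩, a₀, fun a => ?_, ?_⟩
  · change φ (a + b + σ (a + b)) = φ (a + σ a) + φ (b + σ b)
    rw [← map_add φ, map_add σ]
    congr 1
    ring
  · change φ (σ a + σ (σ a)) = φ (a + σ a)
    rw [HermHeis.sig, add_comm]
  · change φ (a₀ + σ a₀) ≠ 0
    rwa [ha₀]

theorem lin_inj {L : F →+ ZMod 2} {a₀ : F} (ha₀ : L a₀ ≠ 0) (hs : ∀ a : F, ∃ x : Heis σ, x.a = a) {c d : F}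
    (h : ∀ x : Heis σ, L (c * x.a) = L (d * x.a)) : c = d := by
  by_contra hne
  have hne' : c - d ≠ 0 := sub_ne_zero.2 hne
  obtain ⟨x, hx⟩ := hs ((c - d)⁻¹ * a₀)
  apply ha₀
  have e : a₀ = c * x.a - d * x.a := by
    have : c * x.a - d * x.a = (c - d) * x.a := by ring
    rw [this, hx, mul_inv_cancel_left₀ hne']
  rw [e, map_sub, h, sub_self]

theorem lin_injective {L : F →+ ZMod 2} {a₀ : F} (ha₀ : L a₀ ≠ 0) (hs : ∀ a : F, ∃ x : Heis σ, x.a = a) :
    Function.Injective (fun c : F => (lin L c : Heis σ →* ℂˣ)) := by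
  intro c d h
  apply lin_inj (σ := σ) ha₀ hs
  intro x
  rw [← lin_eq_iff x x]
  exact DFunLike.congr_fun h x

section

variable [Finite F] {q : ℕ} (hq : 1 < q) (hs : ∀ x, σ x = x ^ q) (hF : Nat.card F = q ^ 2)

include hq hs hF in
theorem center_le_commutator : Subgroup.center (Heis σ) ≤ commutator (Heis σ) := by
  intro x hx
  rw [mem_center_iff hq hs hF] at hx
  obtain ⟨y₀, hy₀⟩ := (card_fixed (σ := σ) hq hs hF).2 x.b (b_fixed_of_a_eq_zero hx)
  obtain ⟨y, hy⟩ := exists_heis_a (σ := σ) hq hs hF y₀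
  obtain ⟨z, hz⟩ := exists_heis_a (σ := σ) hq hs hF 1
  have h1 : x = z * y * z⁻¹ * y⁻¹ := by
    have h2 : x * (y * z) = z * y := by
      ext
      · change x.a + (y.a + z.a) = z.a + y.a
        rw [hx]
        ring
      · change x.b + (y.b + z.b + y.a * σ z.a) + x.a * σ (y.a + z.a) = z.b + y.b + z.a * σ y.a
        rw [hx, hz, hy, ← hy₀, map_one]
        linear_combination CharTwo.add_self_eq_zero y₀
    rw [← h2]
    group
  rw [h1]
  exact Subgroup.commutator_mem_commutator (Subgroup.mem_top z) (Subgroup.mem_top y)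

include hq hs hF in
theorem index_center : (Subgroup.center (Heis σ)).index = q ^ 2 := by
  have h1 := (Subgroup.center (Heis σ)).card_mul_index
  rw [card_center hq hs hF, card_heis hq hs hF, show q ^ 3 = q * q ^ 2 by ring] at h1
  exact Nat.eq_of_mul_eq_mul_left (by omega) h1

include hq hs hF in
/-- The linear characters. -/
theorem lin_surjective {L : F →+ ZMod 2} {a₀ : F} (ha₀ : L a₀ ≠ 0) (f : Heis σ →* ℂˣ) :
    ∃ c : F, lin L c = f := by
  have : Finite (Heis σ →* ℂˣ) := Nat.finite_of_card_ne_zero (by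
    rw [Characters.Linear.card_hom_eq_index_commutator]
    exact Subgroup.index_ne_zero_of_finite)
  have h1 : Nat.card (Heis σ →* ℂˣ) ≤ Nat.card F := by
    rw [Characters.Linear.card_hom_eq_index_commutator, hF, ← index_center hq hs hF]
    exact Nat.le_of_dvd (Nat.pos_of_ne_zero Subgroup.index_ne_zero_of_finite)
      (Subgroup.index_dvd_of_le (center_le_commutator hq hs hF))
  have h2 := lin_injective (σ := σ) ha₀ (exists_heis_a hq hs hF)
  have h3 : Function.Bijective (fun c : F => (lin L c : Heis σ →* ℂˣ)) :=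
    (Nat.bijective_iff_injective_and_card _).2 ⟨h2, le_antisymm (Nat.card_le_card_of_injective _ h2) h1⟩
  exact h3.2 f

include hq hs hF in
/-- **Parity.** -/
theorem parity [Fintype F] [Fintype (Heis σ)] (h2q : ∃ n, q = 2 ^ n) {L : F →+ ZMod 2} {a₀ : F} (ha₀ : L a₀ ≠ 0)
    {f : Heis σ → ℂ} (hf : IsCharacter (Heis σ) f) {d : ℕ} (hd : f 1 = d) {m : F → ℕ}
    (hm : ∀ c, classInner f (fun a => (lin L c a : ℂ)) = m c) : d ≡ ∑ c, m c [MOD 2] := by
  classical
  have := finite_irr (G := Heis σ)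
  have := Fintype.ofFinite (IrrCharacter (Heis σ))
  obtain ⟨k, hk⟩ := exists_nat_comb hf
  have hdeg : ∀ θ : IrrCharacter (Heis σ), (θ : Heis σ → ℂ) 1 = (charDegree (θ : Heis σ → ℂ) : ℕ) :=
    fun θ => Cfsg.Agent.Blocks.Basic.irr_one_eq_charDegree θ.2
  have h1 : d = ∑ θ : IrrCharacter (Heis σ), k θ * charDegree (θ : Heis σ → ℂ) := by
    have e := congrFun hk 1
    rw [hd, Finset.sum_apply] at e
    have e2 : (d : ℂ) = ((∑ θ : IrrCharacter (Heis σ), k θ * charDegree (θ : Heis σ → ℂ) : ℕ) : ℂ) := by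
      rw [e]
      push_cast
      refine Finset.sum_congr rfl fun θ _ => ?_
      rw [Pi.smul_apply, nsmul_eq_mul, hdeg]
    exact_mod_cast e2
  let lc : F → IrrCharacter (Heis σ) := fun c => ⟨fun a => (lin L c a : ℂ), Characters.Linear.isIrrCharacter_hom _⟩
  have hlc : Function.Injective lc := by
    intro c c' h
    apply lin_injective (σ := σ) ha₀ (exists_heis_a hq hs hF)
    ext a
    exact congrFun (congrArg Subtype.val h) a
  have hmk : ∀ c, k (lc c) = m c := by
    intro c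
    have e := hm c
    rw [hk] at e
    have e2 := classInner_sum_nsmul_irr k (lc c)
    have e3 : ((k (lc c) : ℕ) : ℂ) = m c := e2.symm.trans e
    exact_mod_cast e3
  rw [h1]
  have h3 : ∑ c, m c = ∑ θ ∈ Finset.univ.image lc, k θ * charDegree (θ : Heis σ → ℂ) := by
    rw [Finset.sum_image (fun a _ b _ h => hlc h)]
    refine Finset.sum_congr rfl fun c _ => ?_
    have e : charDegree ((lc c : IrrCharacter (Heis σ)) : Heis σ → ℂ) = 1 := by
      have := hdeg (lc c)
      have e2 : ((lc c : IrrCharacter (Heis σ)) : Heis σ → ℂ) 1 = 1 := by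
        change ((lin L c 1 : ℂˣ) : ℂ) = 1
        rw [map_one, Units.val_one]
      rw [e2] at this
      exact_mod_cast this.symm
    rw [hmk, e, mul_one]
  rw [h3, ← Finset.sum_sdiff (Finset.subset_univ (Finset.univ.image lc))]
  have h4 : ∑ θ ∈ Finset.univ \ Finset.univ.image lc, k θ * charDegree (θ : Heis σ → ℂ) ≡ 0 [MOD 2] := by
    rw [Nat.modEq_zero_iff_dvd]
    refine Finset.dvd_sum fun θ hθ => ?_
    refine Dvd.dvd.mul_left ?_ _
    have hdv : charDegree (θ : Heis σ → ℂ) ∣ Nat.card (Heis σ) := Cfsg.Agent.Blocks.Knorr.charDegree_dvd θ.2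
    obtain ⟨n, rfl⟩ := h2q
    rw [card_heis hq hs hF, ← pow_mul] at hdv
    obtain ⟨l, -, hl⟩ := (Nat.dvd_prime_pow Nat.prime_two).1 hdv
    rcases Nat.eq_zero_or_pos l with rfl | hl0
    · exfalso
      rw [pow_zero] at hl
      have e1 : (θ : Heis σ → ℂ) 1 = 1 := by rw [hdeg, hl, Nat.cast_one]
      obtain ⟨g, hg⟩ := Characters.Linear.exists_hom_of_isIrrCharacter θ.2 e1
      obtain ⟨c, hc⟩ := lin_surjective hq hs hF ha₀ g
      apply (Finset.mem_sdiff.1 hθ).2
      refine Finset.mem_image.2 ⟨c, Finset.mem_univ _, Subtype.ext ?_⟩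
      change (fun a => (lin L c a : ℂ)) = (θ : Heis σ → ℂ)
      rw [hc, hg]
    · rw [hl]
      exact dvd_pow_self 2 hl0.ne'
  exact (h4.add_right _).trans (by rw [zero_add])

end

end Cfsg.Agent.H710.Gow.HeisPar
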